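import Mathlib
import Cfsg.Prelude.Def_DegreeGraph
import Cfsg.Agent.S0135
import Cfsg.Agent.S0138
import Cfsg.Agent.S0142
import Cfsg.Agent.S0143
import Cfsg.Agent.Characters.Core
import Cfsg.Agent.CharDeep.PowerDegrees

/-!
# The degrees of a nonsolvable group involve three primes

For a non-abelian finite simple group `G`, a prime `p` dividing some irreducible degree and any
prime `q`, some prime different from `p` and `q` divides an irreducible degree.  This is a
variation of Burnside's argument and does not use the classification.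
-/

set_option autoImplicit false
open Cfsg

namespace Cfsg.Agent.H674.ThreePrimes

open Cfsg.Agent.Characters.Core Cfsg.Agent.CharDeep.PowerDegrees
open Cfsg.Agent.Characters.AverageRoots

universe u

/-- In a non-commutative simple group, an irreducible character whose degree is coprime to the
size of the class of `g ≠ 1` vanishes at `g` or is principal. -/
theorem char_eq_zero {G : Type*} [Group G] [Finite G] [IsSimpleGroup G]
    (g : G) (hg : g ≠ 1)
    (hnc : ¬ ∀ a b : G, a * b = b * a) {V : Type*} [AddCommGroup V] [Module ℂ V]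
    [FiniteDimensional ℂ V] (ρ : Representation ℂ G V) [ρ.IsIrreducible]
    (hcop : Nat.Coprime (Module.finrank ℂ V) (Subgroup.centralizer ({g} : Set G)).index) :
    ρ.character g = 0 ∨ ∀ x, ρ.character x = 1 := by
  rcases Cfsg.Agent.S0142.result ρ g hcop with h | h
  · exact Or.inl h
  right
  have hscal := (Cfsg.Agent.S0138.result ρ g).1 h
  -- the subgroup of elements acting by scalars
  let Z : Subgroup G :=
    { carrier := {x | ∃ ω : ℂ, ρ x = ω • (LinearMap.id : V →ₗ[ℂ] V)}
      mul_mem' := by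
        rintro a b ⟨ω, hω⟩ ⟨η, hη⟩
        refine ⟨ω * η, ?_⟩
        rw [map_mul, hω, hη]
        ext v
        show ω • η • v = (ω * η) • v
        rw [mul_smul]
      one_mem' := ⟨1, by rw [map_one, one_smul]; rfl⟩
      inv_mem' := by
        rintro a ⟨ω, hω⟩
        refine ⟨ω⁻¹, ?_⟩
        have h1 : ρ a⁻¹ * ρ a = 1 := by rw [← map_mul, inv_mul_cancel, map_one]
        by_cases h0 : ω = 0
        · have : ρ a = 0 := by rw [hω, h0, zero_smul]
          rw [this, mul_zero] at h1
          have h2 : ρ a⁻¹ = ρ a⁻¹ * 1 := (mul_one _).symm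
          rw [h2, ← h1, mul_zero, h0]
          simp
        · ext v
          have h2 : ρ a⁻¹ (ρ a v) = v := by
            have := congrArg (fun f => f v) h1
            simpa using this
          rw [hω] at h2
          simp only [LinearMap.smul_apply, LinearMap.id_coe, id_eq, map_smul] at h2 ⊢
          rw [← h2, smul_smul, inv_mul_cancel₀ h0, one_smul, h2] }
  have hZn : Z.Normal := by
    refine ⟨fun a ha b => ?_⟩
    obtain ⟨ω, hω⟩ := ha
    refine ⟨ω, ?_⟩
    have h1 : ρ b * ρ b⁻¹ = 1 := by rw [← map_mul, mul_inv_cancel, map_one]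
    rw [map_mul, map_mul, hω]
    ext v
    have h2 : ρ b (ρ b⁻¹ v) = v := by
      have := congrArg (fun f => f v) h1
      simpa using this
    simp [h2]
  have hZtop : Z = ⊤ := by
    rcases hZn.eq_bot_or_eq_top with h1 | h1
    · exact absurd (Subgroup.mem_bot.1 (h1 ▸ (show g ∈ Z from hscal))) hg
    · exact h1
  have hcomm : ∀ a b : G, ρ (a * b) = ρ (b * a) := by
    intro a b
    obtain ⟨ω, hω⟩ : a ∈ Z := hZtop ▸ Subgroup.mem_top a
    obtain ⟨η, hη⟩ : b ∈ Z := hZtop ▸ Subgroup.mem_top b
    rw [map_mul, map_mul, hω, hη]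
    ext v
    show ω • η • v = η • ω • v
    rw [smul_smul, smul_smul, mul_comm]
  -- the kernel
  let K : Subgroup G :=
    { carrier := {x | ρ x = 1}
      mul_mem' := by
        intro a b ha hb
        show ρ (a * b) = 1
        rw [map_mul, show ρ a = 1 from ha, show ρ b = 1 from hb, one_mul]
      one_mem' := map_one ρ
      inv_mem' := by
        intro a ha
        show ρ a⁻¹ = 1
        have h1 : ρ a⁻¹ * ρ a = 1 := by rw [← map_mul, inv_mul_cancel, map_one]
        rwa [show ρ a = 1 from ha, mul_one] at h1 }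
  have hKn : K.Normal := by
    refine ⟨fun a ha b => ?_⟩
    show ρ (b * a * b⁻¹) = 1
    rw [map_mul, map_mul, show ρ a = 1 from ha, mul_one, ← map_mul, mul_inv_cancel, map_one]
  have hKtop : K = ⊤ := by
    rcases hKn.eq_bot_or_eq_top with h1 | h1
    · exfalso
      apply hnc
      intro a b
      have h2 : (a * b) * (b * a)⁻¹ ∈ K := by
        show ρ ((a * b) * (b * a)⁻¹) = 1
        rw [map_mul, hcomm a b, ← map_mul, mul_inv_cancel, map_one]
      rw [h1, Subgroup.mem_bot, mul_inv_eq_one] at h2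
      exact h2
    · exact h1
  have hall : ∀ x, ρ x = 1 := fun x => (hKtop ▸ Subgroup.mem_top x : x ∈ K)
  have hfr := Cfsg.Agent.S0143.finrank_eq_one_of_forall_eq_one ρ hall
  intro x
  show LinearMap.trace ℂ _ (ρ x) = _
  rw [hall x, LinearMap.trace_one, hfr, Nat.cast_one]

/-- The degree of an irreducible character, as a natural number. -/
theorem charDegree_spec {G : Type*} [Group G] {χ : G → ℂ} (hχ : IsIrrCharacter G χ) :
    χ 1 = (charDegree χ : ℂ) ∧ 0 < charDegree χ := by
  obtain ⟨n, hn, hn'⟩ := isIrr_apply_one hχ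
  have : charDegree χ = n := by simp [charDegree, hn']
  rw [this]
  exact ⟨hn', hn⟩

/-- The key step: in a non-commutative finite simple group, given a prime `p` dividing a degree
and a prime `q`, there is a prime different from `p` and `q` dividing a degree. -/
theorem exists_third {G : Type*} [Group G] [Finite G] [IsSimpleGroup G]
    (hnc : ¬ ∀ a b : G, a * b = b * a) {p q : ℕ} (hp : p.Prime) (hq : q.Prime)
    (hpG : p ∣ Nat.card G) : ∃ r, r ∈ degreePrimes G ∧ r ≠ p ∧ r ≠ q := by
  classical
  by_contra hcon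
  push Not at hcon
  have : Fact p.Prime := ⟨hp⟩
  obtain ⟨P⟩ : Nonempty (Sylow p G) := inferInstance
  have hPne : Nontrivial (P : Subgroup G) := by
    rw [← Finite.one_lt_card_iff_nontrivial]
    have h1 : p ∣ Nat.card (P : Subgroup G) := P.dvd_card_of_dvd_card hpG
    exact lt_of_lt_of_le hp.one_lt (Nat.le_of_dvd Nat.card_pos h1)
  have hc : Nontrivial (Subgroup.center (P : Subgroup G)) := P.isPGroup'.center_nontrivial
  obtain ⟨z, hz⟩ := exists_ne (1 : Subgroup.center (P : Subgroup G))
  set g : G := ((z : (P : Subgroup G)) : G) with hgdef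
  have hg : g ≠ 1 := by
    intro h
    apply hz
    ext
    simpa [hgdef] using h
  have hle : (P : Subgroup G) ≤ Subgroup.centralizer ({g} : Set G) := by
    intro x hx
    rw [Subgroup.mem_centralizer_singleton_iff]
    have := (Subgroup.mem_center_iff.1 z.2) ⟨x, hx⟩
    exact congrArg Subtype.val this
  have hidx : ¬ p ∣ (Subgroup.centralizer ({g} : Set G)).index := fun h =>
    P.not_dvd_index (h.trans (Subgroup.index_dvd_of_le hle))
  obtain ⟨hfin, hcol⟩ := Cfsg.Agent.S0143.finite_irr_and_column (G := G)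
  have := Fintype.ofFinite (Cfsg.IrrCharacter G)
  have hsum := hcol g hg
  rw [finsum_eq_sum_of_fintype] at hsum
  let one : Cfsg.IrrCharacter G := ⟨fun _ => 1, Cfsg.Agent.S0143.isIrrCharacter_one G⟩
  rw [← Finset.add_sum_erase _ _ (Finset.mem_univ one)] at hsum
  have hterm : ∀ χ ∈ (Finset.univ : Finset (Cfsg.IrrCharacter G)).erase one,
      ∃ a : ℂ, IsIntegral ℤ a ∧ (χ : G → ℂ) 1 * (χ : G → ℂ) g = q * a := by
    rintro ⟨χ, hχ⟩ hmem
    have hχ1 : χ ≠ fun _ => 1 := by
      intro h
      exact (Finset.mem_erase.1 hmem).1 (Subtype.ext h)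
    have hχ' := hχ
    obtain ⟨n, ρ, hρ, rfl⟩ := hχ
    by_cases hpn : q ∣ Module.finrank ℂ (Fin n → ℂ)
    · obtain ⟨m, hm⟩ := hpn
      refine ⟨m * ρ.character g, ?_, ?_⟩
      · exact (isIntegral_algebraMap (R := ℤ) (A := ℂ) (x := (m : ℤ))).mul (isIntegral_character ρ g)
      · show ρ.character 1 * ρ.character g = _
        rw [Representation.char_one, hm, Nat.cast_mul, mul_assoc]
    · have hdeg : charDegree ρ.character = Module.finrank ℂ (Fin n → ℂ) := by
        rw [charDegree, Representation.char_one]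
        simp
      have hcop : Nat.Coprime (Module.finrank ℂ (Fin n → ℂ))
          (Subgroup.centralizer ({g} : Set G)).index := by
        refine Nat.coprime_of_dvd fun k hk hk1 hk2 => ?_
        have hmemk : k ∈ degreePrimes G :=
          ⟨hk, charDegree ρ.character, ⟨⟨ρ.character, hχ'⟩, rfl⟩, hdeg ▸ hk1⟩
        by_cases hkp : k = p
        · exact hidx (hkp ▸ hk2)
        · exact hpn (hcon k hmemk hkp ▸ hk1)
      rcases char_eq_zero g hg hnc ρ hcop with h | h
      · refine ⟨0, isIntegral_zero, ?_⟩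
        show ρ.character 1 * ρ.character g = _
        rw [h, mul_zero, mul_zero]
      · exact absurd (funext h) hχ1
  choose! a haint ha using hterm
  rw [Finset.sum_congr rfl ha, ← Finset.mul_sum] at hsum
  have h1 : (1 : ℂ) * 1 + q * ∑ i ∈ Finset.univ.erase one, a i = 0 := hsum
  have hp0 : (q : ℂ) ≠ 0 := Nat.cast_ne_zero.2 hq.ne_zero
  have h2 : algebraMap ℚ ℂ (1 / q) = - ∑ i ∈ Finset.univ.erase one, a i := by
    rw [map_div₀, map_one, map_natCast]
    rw [div_eq_iff hp0]
    linear_combination h1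
  have h3 : IsIntegral ℤ (algebraMap ℚ ℂ (1 / q)) := by
    rw [h2]
    exact (IsIntegral.sum _ haint).neg
  have h4 : IsIntegral ℤ (1 / q : ℚ) := (isIntegral_algebraMap_iff (algebraMap ℚ ℂ).injective).1 h3
  obtain ⟨z', hz'⟩ := IsIntegrallyClosed.isIntegral_iff.1 h4
  have h5 : (z' : ℚ) * q = 1 := by
    have : (z' : ℚ) = 1 / q := hz'
    rw [this, one_div, inv_mul_cancel₀ (Nat.cast_ne_zero.2 hq.ne_zero)]
  have h6 : (q : ℤ) ∣ 1 := ⟨z', by rw [mul_comm]; exact_mod_cast h5.symm⟩
  exact hq.one_lt.ne' (Nat.dvd_one.1 (by exact_mod_cast h6))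

/-- Degree primes of a quotient are degree primes. -/
theorem degreePrimes_of_surjective {G H : Type*} [Group G] [Group H] (f : G →* H)
    (hf : Function.Surjective f) : degreePrimes H ⊆ degreePrimes G := by
  rintro r ⟨hr, d, ⟨χ, rfl⟩, hd⟩
  refine ⟨hr, _, ⟨⟨fun g => (χ : H → ℂ) (f g), isIrr_comp f hf χ.2⟩, rfl⟩, ?_⟩
  have : charDegree (fun g => (χ : H → ℂ) (f g)) = charDegree (χ : H → ℂ) := by
    simp [charDegree]
  rw [this]
  exact hd

/-- Degree primes of a normal subgroup are degree primes. -/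
theorem degreePrimes_of_normal {G : Type*} [Group G] [Finite G] (N : Subgroup G) [N.Normal] :
    degreePrimes N ⊆ degreePrimes G := by
  classical
  have := Fintype.ofFinite G
  rintro r ⟨hr, d, ⟨θ, rfl⟩, hd⟩
  obtain ⟨χ, hχ, hχθ⟩ := exists_irr_over N θ.2
  obtain ⟨m, hm⟩ := degree_dvd N hχ θ.2 hχθ
  refine ⟨hr, _, ⟨⟨χ, hχ⟩, rfl⟩, hd.trans ?_⟩
  rw [(charDegree_spec hχ).1, (charDegree_spec θ.2).1] at hm
  have hm' : charDegree χ = m * charDegree (θ : N → ℂ) := by exact_mod_cast hm
  exact Dvd.intro_left m hm'.symm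

/-- The simple case. -/
theorem three_of_simple {G : Type*} [Group G] [Finite G] [IsSimpleGroup G]
    (hnc : ¬ ∀ a b : G, a * b = b * a) :
    ∃ p q r : ℕ, p ≠ q ∧ q ≠ r ∧ p ≠ r ∧ p ∈ degreePrimes G ∧ q ∈ degreePrimes G ∧
      r ∈ degreePrimes G := by
  -- a prime dividing the group order
  obtain ⟨p₀, hp₀, hp₀G⟩ := Nat.exists_prime_and_dvd
    (n := Nat.card G) (Finite.one_lt_card (α := G)).ne'
  obtain ⟨p, hp, -, -⟩ := exists_third hnc hp₀ hp₀ hp₀G
  have hdvd : ∀ {r}, r ∈ degreePrimes G → r ∣ Nat.card G := by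
    rintro r ⟨hr, d, ⟨χ, rfl⟩, hd⟩
    obtain ⟨n, ρ, hρ, hχ⟩ := χ.2
    have h1 := Cfsg.Agent.S0135.result ρ
    have h2 : charDegree (χ : G → ℂ) = Module.finrank ℂ (Fin n → ℂ) := by
      rw [← hχ, charDegree, Representation.char_one]
      simp
    exact (h2 ▸ hd).trans h1
  obtain ⟨q, hq, hqp, -⟩ := exists_third hnc hp.1 hp.1 (hdvd hp)
  obtain ⟨r, hr, hrp, hrq⟩ := exists_third hnc hp.1 hq.1 (hdvd hp)
  exact ⟨p, q, r, hqp.symm, hrq.symm, hrp.symm, hp, hq, hr⟩

/-- The degrees of a nonsolvable finite group involve at least three primes. -/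
theorem three (n : ℕ) : ∀ {G : Type u} [Group G] [Finite G], Nat.card G = n →
    ¬ Group.IsSolvable G →
    ∃ p q r : ℕ, p ≠ q ∧ q ≠ r ∧ p ≠ r ∧ p ∈ degreePrimes G ∧ q ∈ degreePrimes G ∧
      r ∈ degreePrimes G := by
  induction n using Nat.strong_induction_on with
  | _ n ih =>
    intro G _ _ hn hG
    have hnt : Nontrivial G := by
      by_contra h
      rw [not_nontrivial_iff_subsingleton] at h
      exact hG inferInstance
    by_cases hsimple : ∀ N : Subgroup G, N.Normal → N = ⊥ ∨ N = ⊤
    · have : IsSimpleGroup G := ⟨fun N hN => hsimple N hN⟩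
      refine three_of_simple fun hcomm => hG ?_
      exact Group.isSolvable_of_comm hcomm
    · push Not at hsimple
      obtain ⟨N, hN, hNb, hNt⟩ := hsimple
      have hcardN : Nat.card N < n := by
        rw [← hn]
        exact lt_of_le_of_ne (Subgroup.card_le_card_group N)
          fun h => hNt ((Subgroup.card_eq_iff_eq_top N).1 h)
      have hcardQ : Nat.card (G ⧸ N) < n := by
        have h1 : Nat.card G = Nat.card (G ⧸ N) * Nat.card N :=
          Subgroup.card_eq_card_quotient_mul_card_subgroup N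
        have h2 : 1 < Nat.card N := (Subgroup.one_lt_card_iff_ne_bot N).2 hNb
        have h3 : 0 < Nat.card (G ⧸ N) := Nat.card_pos
        rw [← hn, h1]
        exact lt_mul_of_one_lt_right h3 h2
      by_cases hNs : Group.IsSolvable N
      · by_cases hQs : Group.IsSolvable (G ⧸ N)
        · exfalso
          apply hG
          exact Group.isSolvable_of_ker_le_range N.subtype (QuotientGroup.mk' N)
            (by rw [QuotientGroup.ker_mk', Subgroup.range_subtype])
        · obtain ⟨p, q, r, h1, h2, h3, h4, h5, h6⟩ := ih _ hcardQ rfl hQs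
          have hsub := degreePrimes_of_surjective (QuotientGroup.mk' N)
            (QuotientGroup.mk'_surjective N)
          exact ⟨p, q, r, h1, h2, h3, hsub h4, hsub h5, hsub h6⟩
      · obtain ⟨p, q, r, h1, h2, h3, h4, h5, h6⟩ := ih _ hcardN rfl hNs
        have hsub := degreePrimes_of_normal N
        exact ⟨p, q, r, h1, h2, h3, hsub h4, hsub h5, hsub h6⟩

end Cfsg.Agent.H674.ThreePrimes
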