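import Cfsg.Agent.H674.Explicit
import Cfsg.Agent.LieClassical.FieldTransfer

/-!
# Explicit lower bounds: `PSU_3(3)`, `PSU_3(5)`, `PSU_4(3)`, `SU_5(2)`
-/

set_option autoImplicit false
set_option maxRecDepth 20000
open Cfsg

namespace Cfsg.Agent.H674.ExplicitCases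

open Matrix Cfsg.Agent.H92 Cfsg.Agent.LieClassical Cfsg.Agent.H674.SUTools Cfsg.Agent.H674.SUBlock
open Cfsg.Agent.H674.Explicit

abbrev F4 : Type := QF 2 1 1
abbrev F9 : Type := QF 3 2 0
abbrev F25 : Type := QF 5 2 0

instance : Fact (Nat.Prime 5) := ⟨by norm_num⟩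
instance : Fact (∀ r : ZMod 2, r ^ 2 ≠ 1 + 1 * r) := ⟨by decide⟩
instance : Fact (∀ r : ZMod 3, r ^ 2 ≠ 2 + 0 * r) := ⟨by decide⟩
instance : Fact (∀ r : ZMod 5, r ^ 2 ≠ 2 + 0 * r) := ⟨by decide⟩

def l33 : List (Matrix (Fin 3) (Fin 3) F9) :=
  [!![⟨1, 0⟩, ⟨0, 0⟩, ⟨0, 0⟩; ⟨0, 0⟩, ⟨1, 0⟩, ⟨0, 0⟩; ⟨0, 0⟩, ⟨0, 0⟩, ⟨1, 0⟩],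
   !![⟨2, 0⟩, ⟨0, 0⟩, ⟨0, 0⟩; ⟨0, 0⟩, ⟨0, 0⟩, ⟨2, 0⟩; ⟨0, 0⟩, ⟨2, 0⟩, ⟨0, 0⟩],
   !![⟨1, 0⟩, ⟨0, 0⟩, ⟨0, 0⟩; ⟨0, 0⟩, ⟨0, 0⟩, ⟨0, 2⟩; ⟨0, 0⟩, ⟨0, 2⟩, ⟨0, 0⟩],
   !![⟨0, 2⟩, ⟨0, 0⟩, ⟨0, 0⟩; ⟨0, 0⟩, ⟨2, 0⟩, ⟨0, 0⟩; ⟨0, 0⟩, ⟨0, 0⟩, ⟨0, 2⟩],
   !![⟨0, 1⟩, ⟨0, 0⟩, ⟨0, 0⟩; ⟨0, 0⟩, ⟨0, 1⟩, ⟨0, 0⟩; ⟨0, 0⟩, ⟨0, 0⟩, ⟨2, 0⟩],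
   !![⟨2, 1⟩, ⟨0, 0⟩, ⟨1, 1⟩; ⟨0, 0⟩, ⟨1, 0⟩, ⟨0, 0⟩; ⟨2, 1⟩, ⟨0, 0⟩, ⟨2, 2⟩],
   !![⟨0, 0⟩, ⟨1, 1⟩, ⟨2, 2⟩; ⟨0, 0⟩, ⟨1, 1⟩, ⟨1, 1⟩; ⟨0, 2⟩, ⟨0, 0⟩, ⟨0, 0⟩],
   !![⟨0, 0⟩, ⟨0, 0⟩, ⟨2, 0⟩; ⟨1, 1⟩, ⟨1, 2⟩, ⟨0, 0⟩; ⟨1, 1⟩, ⟨2, 1⟩, ⟨0, 0⟩],
   !![⟨0, 0⟩, ⟨0, 0⟩, ⟨1, 0⟩; ⟨0, 0⟩, ⟨0, 1⟩, ⟨0, 0⟩; ⟨0, 1⟩, ⟨0, 0⟩, ⟨0, 0⟩],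
   !![⟨0, 0⟩, ⟨1, 0⟩, ⟨0, 0⟩; ⟨0, 2⟩, ⟨0, 0⟩, ⟨0, 0⟩; ⟨0, 0⟩, ⟨0, 0⟩, ⟨0, 2⟩],
   !![⟨0, 0⟩, ⟨0, 2⟩, ⟨0, 0⟩; ⟨2, 1⟩, ⟨0, 0⟩, ⟨1, 2⟩; ⟨2, 1⟩, ⟨0, 0⟩, ⟨2, 1⟩],
   !![⟨0, 0⟩, ⟨0, 0⟩, ⟨0, 1⟩; ⟨2, 2⟩, ⟨2, 2⟩, ⟨0, 0⟩; ⟨2, 2⟩, ⟨1, 1⟩, ⟨0, 0⟩]]

def l35 : List (Matrix (Fin 3) (Fin 3) F25) :=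
  [!![⟨1, 0⟩, ⟨0, 0⟩, ⟨0, 0⟩; ⟨0, 0⟩, ⟨1, 0⟩, ⟨0, 0⟩; ⟨0, 0⟩, ⟨0, 0⟩, ⟨1, 0⟩],
   !![⟨3, 3⟩, ⟨0, 0⟩, ⟨0, 0⟩; ⟨0, 0⟩, ⟨0, 0⟩, ⟨3, 3⟩; ⟨0, 0⟩, ⟨3, 3⟩, ⟨0, 0⟩],
   !![⟨0, 0⟩, ⟨2, 2⟩, ⟨0, 0⟩; ⟨0, 0⟩, ⟨0, 0⟩, ⟨2, 3⟩; ⟨1, 0⟩, ⟨0, 0⟩, ⟨0, 0⟩],
   !![⟨1, 0⟩, ⟨0, 0⟩, ⟨0, 0⟩; ⟨0, 0⟩, ⟨0, 1⟩, ⟨4, 2⟩; ⟨0, 0⟩, ⟨1, 2⟩, ⟨0, 4⟩],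
   !![⟨3, 0⟩, ⟨0, 0⟩, ⟨0, 3⟩; ⟨2, 1⟩, ⟨0, 0⟩, ⟨1, 1⟩; ⟨0, 0⟩, ⟨3, 2⟩, ⟨0, 0⟩],
   !![⟨1, 0⟩, ⟨0, 0⟩, ⟨0, 0⟩; ⟨0, 0⟩, ⟨1, 3⟩, ⟨1, 3⟩; ⟨0, 0⟩, ⟨4, 3⟩, ⟨1, 2⟩],
   !![⟨0, 1⟩, ⟨1, 2⟩, ⟨0, 0⟩; ⟨0, 4⟩, ⟨1, 2⟩, ⟨0, 0⟩; ⟨0, 0⟩, ⟨0, 0⟩, ⟨3, 3⟩],
   !![⟨2, 4⟩, ⟨0, 0⟩, ⟨2, 0⟩; ⟨1, 1⟩, ⟨0, 0⟩, ⟨3, 1⟩; ⟨0, 0⟩, ⟨3, 2⟩, ⟨0, 0⟩],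
   !![⟨0, 0⟩, ⟨0, 2⟩, ⟨1, 4⟩; ⟨3, 3⟩, ⟨0, 0⟩, ⟨0, 0⟩; ⟨0, 0⟩, ⟨2, 0⟩, ⟨3, 1⟩],
   !![⟨1, 4⟩, ⟨0, 2⟩, ⟨0, 0⟩; ⟨3, 1⟩, ⟨2, 0⟩, ⟨0, 0⟩; ⟨0, 0⟩, ⟨0, 0⟩, ⟨3, 3⟩],
   !![⟨2, 4⟩, ⟨1, 4⟩, ⟨0, 0⟩; ⟨3, 0⟩, ⟨0, 2⟩, ⟨0, 0⟩; ⟨0, 0⟩, ⟨0, 0⟩, ⟨3, 3⟩],
   !![⟨2, 3⟩, ⟨0, 0⟩, ⟨0, 0⟩; ⟨0, 0⟩, ⟨4, 4⟩, ⟨0, 2⟩; ⟨0, 0⟩, ⟨3, 4⟩, ⟨2, 0⟩]]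

def l43 : List (Matrix (Fin 4) (Fin 4) F9) :=
  [!![⟨1, 0⟩, ⟨0, 0⟩, ⟨0, 0⟩, ⟨0, 0⟩; ⟨0, 0⟩, ⟨1, 0⟩, ⟨0, 0⟩, ⟨0, 0⟩; ⟨0, 0⟩, ⟨0, 0⟩, ⟨1, 0⟩, ⟨0, 0⟩; ⟨0, 0⟩, ⟨0, 0⟩, ⟨0, 0⟩, ⟨1, 0⟩],
   !![⟨1, 0⟩, ⟨1, 0⟩, ⟨0, 0⟩, ⟨2, 1⟩; ⟨1, 0⟩, ⟨1, 0⟩, ⟨0, 0⟩, ⟨1, 2⟩; ⟨0, 0⟩, ⟨0, 0⟩, ⟨1, 0⟩, ⟨0, 0⟩; ⟨2, 2⟩, ⟨1, 1⟩, ⟨0, 0⟩, ⟨0, 0⟩],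
   !![⟨0, 0⟩, ⟨1, 0⟩, ⟨0, 0⟩, ⟨0, 0⟩; ⟨0, 0⟩, ⟨0, 0⟩, ⟨0, 0⟩, ⟨2, 0⟩; ⟨0, 0⟩, ⟨0, 0⟩, ⟨2, 0⟩, ⟨0, 0⟩; ⟨1, 0⟩, ⟨0, 0⟩, ⟨0, 0⟩, ⟨0, 0⟩],
   !![⟨0, 0⟩, ⟨0, 0⟩, ⟨1, 0⟩, ⟨0, 0⟩; ⟨0, 0⟩, ⟨0, 0⟩, ⟨0, 0⟩, ⟨2, 0⟩; ⟨0, 0⟩, ⟨2, 0⟩, ⟨0, 0⟩, ⟨0, 0⟩; ⟨2, 0⟩, ⟨0, 0⟩, ⟨0, 0⟩, ⟨0, 0⟩],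
   !![⟨0, 0⟩, ⟨0, 0⟩, ⟨1, 0⟩, ⟨0, 0⟩; ⟨0, 0⟩, ⟨1, 0⟩, ⟨0, 0⟩, ⟨0, 0⟩; ⟨2, 0⟩, ⟨0, 0⟩, ⟨0, 0⟩, ⟨0, 0⟩; ⟨0, 0⟩, ⟨0, 0⟩, ⟨0, 0⟩, ⟨1, 0⟩],
   !![⟨0, 0⟩, ⟨0, 0⟩, ⟨1, 1⟩, ⟨1, 1⟩; ⟨1, 1⟩, ⟨2, 1⟩, ⟨0, 0⟩, ⟨0, 0⟩; ⟨1, 2⟩, ⟨2, 2⟩, ⟨0, 0⟩, ⟨0, 0⟩; ⟨0, 0⟩, ⟨0, 0⟩, ⟨2, 2⟩, ⟨1, 1⟩],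
   !![⟨0, 0⟩, ⟨0, 2⟩, ⟨0, 0⟩, ⟨0, 0⟩; ⟨2, 1⟩, ⟨0, 0⟩, ⟨2, 2⟩, ⟨0, 0⟩; ⟨0, 0⟩, ⟨0, 0⟩, ⟨0, 0⟩, ⟨0, 2⟩; ⟨2, 1⟩, ⟨0, 0⟩, ⟨1, 1⟩, ⟨0, 0⟩],
   !![⟨1, 2⟩, ⟨1, 1⟩, ⟨0, 0⟩, ⟨0, 0⟩; ⟨0, 0⟩, ⟨0, 0⟩, ⟨0, 0⟩, ⟨2, 0⟩; ⟨0, 0⟩, ⟨0, 0⟩, ⟨0, 2⟩, ⟨0, 0⟩; ⟨2, 2⟩, ⟨2, 1⟩, ⟨0, 0⟩, ⟨0, 0⟩],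
   !![⟨0, 0⟩, ⟨0, 0⟩, ⟨0, 2⟩, ⟨0, 0⟩; ⟨1, 1⟩, ⟨1, 2⟩, ⟨0, 0⟩, ⟨0, 0⟩; ⟨1, 2⟩, ⟨1, 1⟩, ⟨0, 0⟩, ⟨0, 0⟩; ⟨0, 0⟩, ⟨0, 0⟩, ⟨0, 0⟩, ⟨1, 0⟩],
   !![⟨1, 1⟩, ⟨0, 0⟩, ⟨2, 1⟩, ⟨0, 0⟩; ⟨0, 0⟩, ⟨0, 0⟩, ⟨0, 0⟩, ⟨2, 0⟩; ⟨0, 0⟩, ⟨2, 0⟩, ⟨0, 0⟩, ⟨0, 0⟩; ⟨1, 1⟩, ⟨0, 0⟩, ⟨1, 2⟩, ⟨0, 0⟩],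
   !![⟨0, 0⟩, ⟨2, 2⟩, ⟨0, 2⟩, ⟨1, 0⟩; ⟨0, 0⟩, ⟨0, 0⟩, ⟨2, 2⟩, ⟨2, 1⟩; ⟨0, 0⟩, ⟨2, 2⟩, ⟨0, 1⟩, ⟨2, 0⟩; ⟨0, 1⟩, ⟨0, 0⟩, ⟨0, 0⟩, ⟨0, 0⟩],
   !![⟨0, 0⟩, ⟨0, 0⟩, ⟨2, 0⟩, ⟨0, 0⟩; ⟨2, 2⟩, ⟨2, 2⟩, ⟨0, 0⟩, ⟨0, 0⟩; ⟨1, 1⟩, ⟨2, 2⟩, ⟨0, 0⟩, ⟨0, 0⟩; ⟨0, 0⟩, ⟨0, 0⟩, ⟨0, 0⟩, ⟨0, 1⟩]]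

def m8 : Matrix (Fin 5) (Fin 5) F4 :=
  !![⟨1, 0⟩, ⟨0, 0⟩, ⟨1, 0⟩, ⟨0, 0⟩, ⟨1, 0⟩; ⟨1, 0⟩, ⟨0, 0⟩, ⟨0, 1⟩, ⟨0, 0⟩, ⟨1, 1⟩; ⟨0, 0⟩, ⟨1, 0⟩, ⟨0, 0⟩, ⟨0, 0⟩, ⟨0, 0⟩; ⟨0, 1⟩, ⟨0, 0⟩, ⟨1, 0⟩, ⟨0, 0⟩, ⟨1, 1⟩; ⟨0, 0⟩, ⟨0, 0⟩, ⟨0, 0⟩, ⟨1, 1⟩, ⟨0, 0⟩]

def m11 : Matrix (Fin 5) (Fin 5) F4 :=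
  !![⟨0, 0⟩, ⟨1, 0⟩, ⟨0, 0⟩, ⟨0, 0⟩, ⟨0, 0⟩; ⟨0, 0⟩, ⟨0, 0⟩, ⟨0, 0⟩, ⟨0, 1⟩, ⟨0, 0⟩; ⟨1, 0⟩, ⟨0, 0⟩, ⟨1, 1⟩, ⟨0, 0⟩, ⟨0, 1⟩; ⟨1, 1⟩, ⟨0, 0⟩, ⟨1, 0⟩, ⟨0, 0⟩, ⟨0, 1⟩; ⟨1, 0⟩, ⟨0, 0⟩, ⟨1, 0⟩, ⟨0, 0⟩, ⟨1, 0⟩]

def m12 : Matrix (Fin 5) (Fin 5) F4 :=
  !![⟨0, 0⟩, ⟨0, 0⟩, ⟨0, 1⟩, ⟨0, 0⟩, ⟨0, 0⟩; ⟨1, 1⟩, ⟨0, 0⟩, ⟨0, 0⟩, ⟨0, 0⟩, ⟨0, 0⟩; ⟨0, 0⟩, ⟨0, 0⟩, ⟨0, 0⟩, ⟨0, 0⟩, ⟨0, 1⟩; ⟨0, 0⟩, ⟨0, 0⟩, ⟨0, 0⟩, ⟨1, 1⟩, ⟨0, 0⟩; ⟨0, 0⟩, ⟨1, 0⟩, ⟨0, 0⟩, ⟨0, 0⟩, ⟨0, 0⟩]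

def m15 : Matrix (Fin 5) (Fin 5) F4 :=
  !![⟨0, 0⟩, ⟨0, 0⟩, ⟨0, 0⟩, ⟨0, 0⟩, ⟨1, 1⟩; ⟨0, 0⟩, ⟨0, 1⟩, ⟨1, 1⟩, ⟨1, 1⟩, ⟨0, 0⟩; ⟨1, 0⟩, ⟨0, 0⟩, ⟨0, 0⟩, ⟨0, 0⟩, ⟨0, 0⟩; ⟨0, 0⟩, ⟨1, 1⟩, ⟨0, 1⟩, ⟨1, 1⟩, ⟨0, 0⟩; ⟨0, 0⟩, ⟨1, 1⟩, ⟨1, 1⟩, ⟨0, 1⟩, ⟨0, 0⟩]

def m18 : Matrix (Fin 5) (Fin 5) F4 :=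
  !![⟨0, 0⟩, ⟨0, 0⟩, ⟨0, 1⟩, ⟨0, 0⟩, ⟨0, 0⟩; ⟨1, 1⟩, ⟨0, 0⟩, ⟨0, 0⟩, ⟨0, 0⟩, ⟨0, 0⟩; ⟨0, 0⟩, ⟨1, 1⟩, ⟨0, 0⟩, ⟨0, 0⟩, ⟨0, 0⟩; ⟨0, 0⟩, ⟨0, 0⟩, ⟨0, 0⟩, ⟨0, 0⟩, ⟨1, 1⟩; ⟨0, 0⟩, ⟨0, 0⟩, ⟨0, 0⟩, ⟨1, 1⟩, ⟨0, 0⟩]

theorem good33 : l33.all (good 3) = true := by decide +kernel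

theorem nodup33 : (l33.map (inv [1, 2, 3, 4, 6, 7, 8])).Nodup := by decide +kernel

theorem good35 : l35.all (good 5) = true := by decide +kernel

/-- the elements of `F25` -/
def els25 : List F25 := (List.range 5).flatMap fun i => (List.range 5).map fun j => ⟨i, j⟩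

theorem mem_els25 (c : F25) : c ∈ els25 := by
  revert c; decide +kernel

/-- invariants for `PSU_3(5)` -/
def inv35 (M : Matrix (Fin 3) (Fin 3) F25) : F25 × Bool × List Bool :=
  (M.trace ^ 3, uni2 els25 M, exps [1, 2, 3, 4, 5, 6, 7, 8] M)

theorem nodup35 : (l35.map inv35).Nodup := by decide +kernel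

theorem good43 : l43.all (good 3) = true := by decide +kernel

/-- invariants for `PSU_4(3)` -/
def inv43 (M : Matrix (Fin 4) (Fin 4) F9) : F9 × F9 × F9 × List Bool :=
  (M.trace ^ 4, M.trace ^ 2 * (M.trace ^ 2 - (M * M).trace), (M.trace ^ 2 - (M * M).trace) ^ 2,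
    exps [1, 2, 3, 4, 5, 6, 7, 8, 9] M)

theorem nodup43 : (l43.map inv43).Nodup := by decide +kernel

theorem good52 : good 2 m8 = true ∧ good 2 m11 = true ∧ good 2 m12 = true ∧ good 2 m15 = true ∧ good 2 m18 = true := by
  decide +kernel

theorem ord52 : ordIs m8 8 = true ∧ ordIs m11 11 = true ∧ ordIs m12 12 = true ∧ ordIs m15 15 = true ∧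
    ordIs m18 18 = true := by
  decide +kernel

end Cfsg.Agent.H674.ExplicitCases
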