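import Cfsg.Agent.LieClassical.HermBasic
import Cfsg.Agent.H674.SUBlock

/-!
# A Steinberg cross-section for `SU_3(q)` and `SU_4(q)`

For the antidiagonal Hermitian form there are explicit matrices with characteristic polynomials
`X³ - t X² + t̄ X - 1` (`t ∈ F`) and `X⁴ - t X³ + a X² - t̄ X + 1` (`t ∈ F`, `a ∈ F_q`). Hence
`q² ≤ k(SU_n(q))` for `n ≥ 3` and `q³ ≤ k(SU_n(q))` for `n ≥ 4`.
-/

set_option autoImplicit false
open Cfsg

namespace Cfsg.Agent.H674.SteinbergSU

open Matrix Polynomial Cfsg.Agent.H92 Cfsg.Agent.LieClassical Cfsg.Agent.H674.SUTools Cfsg.Agent.H674.SUBlock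

variable {F : Type*} [Field F] [Fintype F] {n q : ℕ}

theorem isom_of_frame (hF : Fintype.card F = q ^ 2) {P J M Q : Matrix (Fin n) (Fin n) F} (hPQ : P * Q = 1)
    (hPJ : Pᵀ * P.map (GUOrder.frob hF) = J) (hM : Mᵀ * J * M.map (GUOrder.frob hF) = J) :
    (P * M * Q)ᵀ * (P * M * Q).map (GUOrder.frob hF) = 1 := by
  set s := GUOrder.frob hF
  have h1 : (P * M * Q).map s = P.map s * M.map s * Q.map s := by
    rw [Matrix.map_mul, Matrix.map_mul]
  have h2 : (P * M * Q)ᵀ = Qᵀ * Mᵀ * Pᵀ := by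
    rw [Matrix.transpose_mul, Matrix.transpose_mul, mul_assoc]
  have h3 : P.map s * Q.map s = 1 := by
    rw [← Matrix.map_mul, hPQ, Matrix.map_one _ (map_zero _) (map_one _)]
  have h4 : Qᵀ * Pᵀ = 1 := by rw [← Matrix.transpose_mul, hPQ, Matrix.transpose_one]
  calc (P * M * Q)ᵀ * (P * M * Q).map s = Qᵀ * (Mᵀ * (Pᵀ * P.map s) * M.map s) * Q.map s := by
        rw [h1, h2]; simp only [mul_assoc]
    _ = Qᵀ * (Pᵀ * P.map s) * Q.map s := by rw [hPJ, hM]
    _ = (Qᵀ * Pᵀ) * (P.map s * Q.map s) := by simp only [mul_assoc]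
    _ = 1 := by rw [h3, h4, one_mul]

/-- an invertible Gram matrix gives an invertible frame -/
theorem exists_inv (hF : Fintype.card F = q ^ 2) {P J : Matrix (Fin n) (Fin n) F} (hJ : J * J = 1)
    (hPJ : Pᵀ * P.map (GUOrder.frob hF) = J) : ∃ Q, P * Q = 1 ∧ Q * P = 1 := by
  have h1 : Pᵀ * (P.map (GUOrder.frob hF) * J) = 1 := by rw [← mul_assoc, hPJ, hJ]
  have h2 := congrArg Matrix.transpose h1
  rw [Matrix.transpose_mul, Matrix.transpose_transpose, Matrix.transpose_one] at h2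
  exact ⟨_, mul_eq_one_comm.1 h2, h2⟩

/-- the element of `SU_n(q)` belonging to an isometry of another form -/
theorem exists_elt (hF : Fintype.card F = q ^ 2) {P J M : Matrix (Fin n) (Fin n) F} (hJ : J * J = 1)
    (hPJ : Pᵀ * P.map (GUOrder.frob hF) = J) (hM : Mᵀ * J * M.map (GUOrder.frob hF) = J) (hdet : M.det = 1) :
    ∃ x : Cfsg.SU n F q, (cm x).charpoly = M.charpoly := by
  obtain ⟨Q, h1, h2⟩ := exists_inv hF hJ hPJ
  refine ⟨mkSU hF (P * M * Q) ?_ (isom_of_frame hF h1 hPJ hM), ?_⟩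
  · rw [Matrix.det_mul, Matrix.det_mul, hdet, mul_one, ← Matrix.det_mul, h1, Matrix.det_one]
  · rw [cm_mkSU, Matrix.charpoly_mul_comm, ← mul_assoc, h2, one_mul]

/-- the antidiagonal matrices -/
def J3 (F : Type*) [Field F] : Matrix (Fin 3) (Fin 3) F := !![0, 0, 1; 0, 1, 0; 1, 0, 0]

def J4 (F : Type*) [Field F] : Matrix (Fin 4) (Fin 4) F := !![0, 0, 0, 1; 0, 0, 1, 0; 0, 1, 0, 0; 1, 0, 0, 0]

omit [Fintype F] in
theorem J3_mul : J3 F * J3 F = 1 := by
  ext i j
  fin_cases i <;> fin_cases j <;> simp [J3, Matrix.mul_apply, Fin.sum_univ_succ]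

omit [Fintype F] in
theorem J4_mul : J4 F * J4 F = 1 := by
  ext i j
  fin_cases i <;> fin_cases j <;> simp [J4, Matrix.mul_apply, Fin.sum_univ_succ]

/-- a hyperbolic pair `(1, c), (α, δ)` of the form `u₁ v̄₁ + u₂ v̄₂` -/
theorem exists_hyp (hF : Fintype.card F = q ^ 2) : ∃ c α δ : F, c * GUOrder.frob hF c = -1 ∧
    GUOrder.frob hF α + c * GUOrder.frob hF δ = 1 ∧ α + GUOrder.frob hF c * δ = 1 ∧
    α * GUOrder.frob hF α + δ * GUOrder.frob hF δ = 0 := by
  obtain ⟨c, hc⟩ := HermBasic.exists_norm_eq hF (c := -1) (by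
    rw [HermBasic.neg_pow_q hF, one_pow])
  obtain ⟨z, hz, hz1⟩ := GUOrder.exists_norm_one hF
  have hz' : z * GUOrder.frob hF z = 1 := by
    rw [GUOrder.frob_apply, ← pow_succ', hz]
  have hc' : c * GUOrder.frob hF c = -1 := hc
  set s := GUOrder.frob hF
  have h1 : 1 - z ≠ 0 := sub_ne_zero.2 (Ne.symm hz1)
  have h2 : 1 - s z ≠ 0 := by
    intro h
    apply h1
    apply s.injective
    rw [map_sub, map_one, h, map_zero]
  refine ⟨c, (1 - z)⁻¹, (1 - z)⁻¹ * (z * c), hc', ?_, ?_, ?_⟩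
  · simp only [map_mul, map_inv₀, map_sub, map_one]
    field_simp
    linear_combination (s z) * hc'
  · field_simp
    linear_combination z * hc'
  · simp only [map_mul, map_inv₀, map_sub, map_one]
    field_simp
    linear_combination (z * s z) * hc' + (-1) * hz'

theorem exists_frame3 (hF : Fintype.card F = q ^ 2) :
    ∃ P : Matrix (Fin 3) (Fin 3) F, Pᵀ * P.map (GUOrder.frob hF) = J3 F := by
  obtain ⟨c, α, δ, h1, h2, h3, h4⟩ := exists_hyp hF
  refine ⟨!![1, 0, α; c, 0, δ; 0, 1, 0], ?_⟩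
  ext i j
  fin_cases i <;> fin_cases j <;>
    simp [J3, Matrix.mul_apply, Fin.sum_univ_succ, h1, h2, h4]
  linear_combination h3

theorem exists_frame4 (hF : Fintype.card F = q ^ 2) :
    ∃ P : Matrix (Fin 4) (Fin 4) F, Pᵀ * P.map (GUOrder.frob hF) = J4 F := by
  obtain ⟨c, α, δ, h1, h2, h3, h4⟩ := exists_hyp hF
  refine ⟨!![1, 0, 0, α; c, 0, 0, δ; 0, 1, α, 0; 0, c, δ, 0], ?_⟩
  ext i j
  fin_cases i <;> fin_cases j <;>
    simp [J4, Matrix.mul_apply, Fin.sum_univ_succ, h1, h2, h4]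
  · linear_combination h3
  · linear_combination h3

/-- three dimensional cross-section -/
theorem exists_three (hF : Fintype.card F = q ^ 2) (t : F) :
    ∃ x : Cfsg.SU 3 F q, (cm x).charpoly = X ^ 3 - C t * X ^ 2 + C (GUOrder.frob hF t) * X - 1 := by
  obtain ⟨P, hP⟩ := exists_frame3 hF
  set s := GUOrder.frob hF with hs
  have hss : ∀ x, s (s x) = x := GUOrder.frob_frob hF
  obtain ⟨a, ha⟩ := HermBasic.exists_norm_eq hF (c := -((t + 1) + s (t + 1))) (by
    show s _ = _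
    rw [map_neg, map_add, hss, add_comm])
  have ha' : a * s a = -((t + 1) + s (t + 1)) := ha
  rw [map_add, map_one] at ha'
  obtain ⟨x, hx⟩ := exists_elt hF (M := !![t + 1, -a, 1; -s a, -1, 0; 1, 0, 0]) J3_mul hP (by
    rw [← hs]
    ext i j
    fin_cases i <;> fin_cases j <;>
      simp [J3, Matrix.mul_apply, Fin.sum_univ_succ, hss]
    linear_combination ha') (by
    rw [Matrix.det_fin_three]
    simp)
  refine ⟨x, ?_⟩
  rw [hx, Matrix.charpoly, Matrix.charmatrix, Matrix.det_fin_three]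
  simp [Matrix.diagonal, Matrix.of_apply]
  have h5 : (C a * C (s a) : F[X]) = -((C t + 1) + (C (s t) + 1)) := by
    rw [← C_mul, ha']
    simp
  linear_combination (-X : F[X]) * h5

/-- four dimensional cross-section -/
theorem exists_four (hF : Fintype.card F = q ^ 2) (t a : F) (ha : GUOrder.frob hF a = a) :
    ∃ x : Cfsg.SU 4 F q, (cm x).charpoly =
      X ^ 4 - C t * X ^ 3 + C a * X ^ 2 - C (GUOrder.frob hF t) * X + 1 := by
  obtain ⟨P, hP⟩ := exists_frame4 hF
  obtain ⟨i0, hi0, hi1⟩ := HermBasic.exists_trace_zero_ne hF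
  set s := GUOrder.frob hF with hs
  have hss : ∀ x, s (s x) = x := GUOrder.frob_frob hF
  have hi : s i0 = -i0 := by
    have : s i0 = i0 ^ q := rfl
    rw [this]
    linear_combination hi1
  obtain ⟨x, hx⟩ := exists_elt hF
    (M := !![t, -a, i0⁻¹, 0; 1, 0, 0, 0; 0, s t * i0, 0, 1; 0, -i0, 0, 0]) J4_mul hP (by
    rw [← hs]
    ext i j
    fin_cases i <;> fin_cases j <;>
      simp [J4, Matrix.mul_apply, Fin.sum_univ_succ, hss, ha, hi, hi0]
    · ring
    · ring) (by
    simp [Matrix.det_succ_row_zero, Fin.sum_univ_succ, Fin.succAbove, hi0])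
  refine ⟨x, ?_⟩
  have h6 : (C i0⁻¹ * C i0 : F[X]) = 1 := by
    rw [← C_mul, inv_mul_cancel₀ hi0, C_1]
  rw [hx, Matrix.charpoly, Matrix.charmatrix]
  simp [Matrix.det_succ_row_zero, Fin.sum_univ_succ, Fin.succAbove, Matrix.diagonal, Matrix.of_apply]
  linear_combination (1 - C (s t) * X) * h6

theorem sq_le_three (hF : Fintype.card F = q ^ 2) (k : ℕ) :
    q ^ 2 ≤ Nat.card (ConjClasses (Cfsg.SU (3 + k) F q)) := by
  classical
  choose f hf using fun t : F => exists_three hF t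
  have h1 := KTools.card_le_of_inj (G := Cfsg.SU (3 + k) F q) (fun t : F => ext hF k (f t)) ?_
  · rwa [Nat.card_eq_fintype_card, hF] at h1
  · intro t t' h
    have h2 := charpoly_of_isConj_ext hF h
    rw [hf, hf] at h2
    have h3 := congrArg (fun p => p.coeff 2) h2
    simp [coeff_one] at h3
    exact h3

theorem cube_le_four (hF : Fintype.card F = q ^ 2) (k : ℕ) :
    q ^ 3 ≤ Nat.card (ConjClasses (Cfsg.SU (4 + k) F q)) := by
  classical
  choose f hf using fun p : F × {a : F // a ^ q = a} => exists_four hF p.1 p.2.1 p.2.2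
  have h1 := KTools.card_le_of_inj (G := Cfsg.SU (4 + k) F q)
    (fun p : F × {a : F // a ^ q = a} => ext hF k (f p)) ?_
  · rw [Nat.card_prod, Nat.card_eq_fintype_card, hF, HermBasic.card_fixed hF] at h1
    rwa [pow_succ]
  · intro p p' h
    have h2 := charpoly_of_isConj_ext hF h
    rw [hf, hf] at h2
    have h3 := congrArg (fun p => p.coeff 3) h2
    have h4 := congrArg (fun p => p.coeff 2) h2
    simp [coeff_one] at h3 h4
    exact Prod.ext h3 (Subtype.ext h4)

end Cfsg.Agent.H674.SteinbergSU
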