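import Cfsg.Agent.S0280
import Cfsg.Agent.H674.PSUFourTwo
import Cfsg.Agent.H674.SteinbergSU
import Cfsg.Agent.H674.ExplicitCases

/-!
# `12 ≤ k(PSU_n(q))` for `n ≥ 3`, `(n, q) ≠ (3, 2)`
-/

set_option autoImplicit false
open Cfsg

namespace Cfsg.Agent.H674.TwelvePSU

open Matrix Cfsg.Agent.H92 Cfsg.Agent.LieClassical Cfsg.Agent.H674.SUTools Cfsg.Agent.H674.SUBlock
open Cfsg.Agent.H674.Explicit Cfsg.Agent.H674.ExplicitCases

theorem h4 : Fintype.card F4 = 2 ^ 2 := card_QF 2 1 1
theorem h9 : Fintype.card F9 = 3 ^ 2 := card_QF 3 2 0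
theorem h25 : Fintype.card F25 = 5 ^ 2 := card_QF 5 2 0

theorem psu33 (F : Type) [Field F] [Fintype F] (hF : Fintype.card F = 3 ^ 2) :
    12 ≤ Nat.card (ConjClasses (Cfsg.PSU 3 F 3)) := by
  rw [KTools.card_classes_congr (FieldTransfer.psuCongr 3 3 (FiniteField.ringEquivOfCardEq (hF.trans h9.symm)))]
  have h1 := card_classes_le (F := F9) (n := 3) (q := 3) h9 le_rfl
  have h2 := length_le_SU (n := 3) (q := 3) h9 (inv [1, 2, 3, 4, 6, 7, 8]) (inv_conj _) l33
    (fun M hM => List.all_eq_true.1 good33 M hM) nodup33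
  have h3 : Nat.gcd 3 (3 + 1) = 1 := by norm_num
  have h5 : l33.length = 12 := rfl
  rw [h3, one_mul] at h1
  rw [h5] at h2
  exact h2.trans h1

theorem psu35 (F : Type) [Field F] [Fintype F] (hF : Fintype.card F = 5 ^ 2) :
    12 ≤ Nat.card (ConjClasses (Cfsg.PSU 3 F 5)) := by
  rw [KTools.card_classes_congr (FieldTransfer.psuCongr 3 5 (FiniteField.ringEquivOfCardEq (hF.trans h25.symm)))]
  have h2 := length_le_PSU (n := 3) (q := 5) h25 le_rfl inv35 (fun P Q M h1 h2 => ?_) (fun c M h1 h2 => ?_) l35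
    (fun M hM => List.all_eq_true.1 good35 M hM) nodup35
  · exact h2
  · unfold inv35
    rw [trace_conj h2, uni2_conj mem_els25 h1 h2, exps_conj _ h1 h2]
  · have hc : c ≠ 0 := by
      rintro rfl
      norm_num at h1
    unfold inv35
    rw [uni2_smul mem_els25 hc, exps_smul _ hc, Matrix.trace_smul, smul_eq_mul, mul_pow, h1, one_mul]

theorem psu43 (F : Type) [Field F] [Fintype F] (hF : Fintype.card F = 3 ^ 2) :
    12 ≤ Nat.card (ConjClasses (Cfsg.PSU 4 F 3)) := by
  rw [KTools.card_classes_congr (FieldTransfer.psuCongr 4 3 (FiniteField.ringEquivOfCardEq (hF.trans h9.symm)))]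
  have h2 := length_le_PSU (n := 4) (q := 3) h9 (by norm_num) inv43 (fun P Q M h1 h2 => ?_)
    (fun c M h1 h2 => ?_) l43 (fun M hM => List.all_eq_true.1 good43 M hM) nodup43
  · exact h2
  · have h3 : P * M * Q * (P * M * Q) = P * (M * M) * Q := by
      have := conj_pow' (M := M) h1 h2 2
      rwa [pow_two, pow_two] at this
    unfold inv43
    rw [h3, trace_conj h2, trace_conj h2, exps_conj _ h1 h2]
  · have hc : c ≠ 0 := by
      rintro rfl
      norm_num at h1
    have h3 : (c • M).trace = c * M.trace := by rw [Matrix.trace_smul, smul_eq_mul]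
    have h4 : (c • M * c • M).trace = c ^ 2 * (M * M).trace := by
      rw [smul_mul_smul_comm, Matrix.trace_smul, smul_eq_mul, pow_two]
    have h5 : (c * M.trace) ^ 4 = M.trace ^ 4 := by rw [mul_pow, h1, one_mul]
    have h6 : (c * M.trace) ^ 2 * ((c * M.trace) ^ 2 - c ^ 2 * (M * M).trace) =
        M.trace ^ 2 * (M.trace ^ 2 - (M * M).trace) := by
      linear_combination (M.trace ^ 2 * (M.trace ^ 2 - (M * M).trace)) * h1
    have h7 : ((c * M.trace) ^ 2 - c ^ 2 * (M * M).trace) ^ 2 = (M.trace ^ 2 - (M * M).trace) ^ 2 := by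
      linear_combination ((M.trace ^ 2 - (M * M).trace) ^ 2) * h1
    unfold inv43
    rw [exps_smul _ hc, h3, h4, h5, h6, h7]

theorem ord52' : ∀ m ∈ ({1, 2, 3, 4, 5, 6, 8, 9, 11, 12, 15, 18} : Finset ℕ), KTools.HasOrd (Cfsg.SU 5 F4 2) m := by
  obtain ⟨g1, g2, g3, g4, g5⟩ := good52
  obtain ⟨o1, o2, o3, o4, o5⟩ := ord52
  have h8 := hasOrd_of h4 g1 (by norm_num) o1
  have h11 := hasOrd_of h4 g2 (by norm_num) o2
  have h12 := hasOrd_of h4 g3 (by norm_num) o3
  have h15 := hasOrd_of h4 g4 (by norm_num) o4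
  have h18 := hasOrd_of h4 g5 (by norm_num) o5
  intro m hm
  simp only [Finset.mem_insert, Finset.mem_singleton] at hm
  rcases hm with rfl | rfl | rfl | rfl | rfl | rfl | rfl | rfl | rfl | rfl | rfl | rfl
  · exact KTools.hasOrd_one _
  · exact h8.of_dvd (by norm_num) (by norm_num)
  · exact h18.of_dvd (by norm_num) (by norm_num)
  · exact h8.of_dvd (by norm_num) (by norm_num)
  · exact h15.of_dvd (by norm_num) (by norm_num)
  · exact h18.of_dvd (by norm_num) (by norm_num)
  · exact h8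
  · exact h18.of_dvd (by norm_num) (by norm_num)
  · exact h11
  · exact h12
  · exact h15
  · exact h18

theorem psu_two (F : Type) [Field F] [Fintype F] (hF : Fintype.card F = 2 ^ 2) (k : ℕ) :
    12 ≤ Nat.card (ConjClasses (Cfsg.PSU (5 + k) F 2)) := by
  rw [KTools.card_classes_congr (FieldTransfer.psuCongr (5 + k) 2 (FiniteField.ringEquivOfCardEq (hF.trans h4.symm)))]
  rcases Nat.eq_zero_or_pos k with rfl | hk
  · have h1 := card_classes_le (F := F4) (n := 5) (q := 2) h4 (by norm_num)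
    have h2 := KTools.orders_le (G := Cfsg.SU 5 F4 2) _ ord52'
    have h3 : Nat.gcd 5 (2 + 1) = 1 := by norm_num
    rw [h3, one_mul] at h1
    exact le_trans (by decide) (h2.trans h1)
  · have h2 := KTools.orders_le (G := Cfsg.PSU (5 + k) F4 2) {1, 2, 3, 4, 5, 6, 8, 9, 11, 12, 15, 18} (fun m hm =>
      (ord52' m hm).of_injective _ (pr_ext_injective h4 (by omega) hk))
    exact le_trans (by decide) h2

theorem ord43' (F : Type) [Field F] [Fintype F] (hF : Fintype.card F = 3 ^ 2) :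
    ∀ m ∈ ({1, 2, 3, 4, 5, 6, 7, 10, 12, 14, 20, 28} : Finset ℕ), KTools.HasOrd (Cfsg.SU 4 F 3) m := by
  classical
  have hcard : Nat.card (Cfsg.SU 4 F 3) = 13063680 := by
    have h1 := Cfsg.Agent.S0278.result hF 4 (by norm_num)
    have h2 : (3 + 1) * Nat.card (Cfsg.SU 4 F 3) = 4 * 13063680 := by
      rw [h1]; decide
    omega
  -- a central element of order four
  obtain ⟨z, hz, hz4⟩ : ∃ z : Cfsg.SU 4 F 3, z ∈ Subgroup.center (Cfsg.SU 4 F 3) ∧ orderOf z = 4 := by
    obtain ⟨g, hg⟩ := IsCyclic.exists_ofOrder_eq_natCard (α := Fˣ)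
    have h1 : Nat.card Fˣ = 4 * 2 := by
      rw [HermBasic.card_units_eq hF]
    rw [h1] at hg
    have h2 : orderOf (g ^ 2) = 4 := by
      rw [orderOf_pow_of_dvd two_ne_zero (by rw [hg]; norm_num), hg]
    have h3 : orderOf ((g ^ 2 : Fˣ) : F) = 4 := by rw [orderOf_units, h2]
    have h4 : ((g ^ 2 : Fˣ) : F) ^ 4 = 1 := by rw [← h3, pow_orderOf_eq_one]
    refine ⟨SUBasic.suScalar 3 ((g ^ 2 : Fˣ) : F) h4 h4, SUBasic.suScalar_mem_center _ _ _ _, ?_⟩
    rw [← orderOf_cm]
    refine Eq.trans ?_ h3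
    exact orderOf_injective (Matrix.scalar (Fin 4) : F →+* Matrix (Fin 4) (Fin 4) F).toMonoidHom
      (fun a b h => Matrix.scalar_inj.1 h) _
  have key : ∀ p : ℕ, p.Prime → p ∣ 13063680 → Nat.Coprime 4 p → KTools.HasOrd (Cfsg.SU 4 F 3) (4 * p) := by
    intro p hp hdvd hco
    obtain ⟨x, hx⟩ := KTools.hasOrd_prime (G := Cfsg.SU 4 F 3) hp (by rw [hcard]; exact hdvd)
    exact KTools.HasOrd.mul_of_commute hz4 hx (Subgroup.mem_center_iff.1 hz x).symm hco
  have h12 := key 3 (by norm_num) (by norm_num) (by norm_num)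
  have h20 := key 5 (by norm_num) (by norm_num) (by norm_num)
  have h28 := key 7 (by norm_num) (by norm_num) (by norm_num)
  intro m hm
  simp only [Finset.mem_insert, Finset.mem_singleton] at hm
  rcases hm with rfl | rfl | rfl | rfl | rfl | rfl | rfl | rfl | rfl | rfl | rfl | rfl
  · exact KTools.hasOrd_one _
  · exact h12.of_dvd (by norm_num) (by norm_num)
  · exact h12.of_dvd (by norm_num) (by norm_num)
  · exact h12.of_dvd (by norm_num) (by norm_num)
  · exact h20.of_dvd (by norm_num) (by norm_num)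
  · exact h12.of_dvd (by norm_num) (by norm_num)
  · exact h28.of_dvd (by norm_num) (by norm_num)
  · exact h20.of_dvd (by norm_num) (by norm_num)
  · exact h12
  · exact h28.of_dvd (by norm_num) (by norm_num)
  · exact h20
  · exact h28

theorem psu_three (F : Type) [Field F] [Fintype F] (hF : Fintype.card F = 3 ^ 2) (k : ℕ) (hk : 0 < k) :
    12 ≤ Nat.card (ConjClasses (Cfsg.PSU (4 + k) F 3)) := by
  classical
  have h2 := KTools.orders_le (G := Cfsg.PSU (4 + k) F 3) {1, 2, 3, 4, 5, 6, 7, 10, 12, 14, 20, 28} (fun m hm =>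
    (ord43' F hF m hm).of_injective _ (pr_ext_injective hF (by omega) hk))
  exact le_trans (by decide) h2

/-- **`12 ≤ k(PSU_n(q))`** for `n ≥ 3`, `(n, q) ≠ (3, 2)` -/
theorem twelve_le_psu (F : Type) [Field F] [Fintype F] (n q : ℕ) (hF : Fintype.card F = q ^ 2) (hn : 3 ≤ n)
    (h : ¬ (n = 3 ∧ q = 2)) : 12 ≤ Nat.card (ConjClasses (Cfsg.PSU n F q)) := by
  have hq := GUOrder.two_le hF
  have hle := card_classes_le hF hn
  rcases Nat.lt_or_ge 3 n with hn4 | hn3
  · -- `n ≥ 4`
    rcases Nat.lt_or_ge q 4 with hq4 | hq4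
    · -- `q = 2, 3`
      have hq' : q = 2 ∨ q = 3 := by omega
      rcases hq' with rfl | rfl
      · rcases Nat.lt_or_ge 4 n with hn5 | hn5
        · obtain ⟨k, rfl⟩ := Nat.exists_eq_add_of_le (show 5 ≤ n by omega)
          exact psu_two F hF k
        · obtain rfl : n = 4 := by omega
          exact PSUFourTwo.twelve_le F hF
      · rcases Nat.lt_or_ge 4 n with hn5 | hn5
        · obtain ⟨k, rfl⟩ := Nat.exists_eq_add_of_le (show 4 ≤ n by omega)
          exact psu_three F hF k (by omega)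
        · obtain rfl : n = 4 := by omega
          exact psu43 F hF
    · -- `q ≥ 4`
      obtain ⟨k, rfl⟩ := Nat.exists_eq_add_of_le (show 4 ≤ n by omega)
      have h1 := SteinbergSU.cube_le_four hF k
      by_contra hcon
      have h2 : Nat.card (ConjClasses (Cfsg.PSU (4 + k) F q)) ≤ 11 := by omega
      have h3 : q ^ 3 ≤ Nat.gcd (4 + k) (q + 1) * 11 :=
        (h1.trans hle).trans (Nat.mul_le_mul_left _ h2)
      have h4 : Nat.gcd (4 + k) (q + 1) ≤ q + 1 := Nat.gcd_le_right _ (by omega)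
      have h5 : q ^ 3 ≤ (q + 1) * 11 := h3.trans (Nat.mul_le_mul_right _ h4)
      nlinarith [mul_le_mul hq4 hq4 (by norm_num) (by omega)]
  · -- `n = 3`
    obtain rfl : n = 3 := by omega
    have hq2 : q ≠ 2 := fun h' => h ⟨rfl, h'⟩
    rcases eq_or_ne q 3 with rfl | hq3
    · exact psu33 F hF
    rcases eq_or_ne q 5 with rfl | hq5
    · exact psu35 F hF
    have h1 := SteinbergSU.sq_le_three hF 0
    by_contra hcon
    have h2 : Nat.card (ConjClasses (Cfsg.PSU 3 F q)) ≤ 11 := by omega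
    have h3 : q ^ 2 ≤ Nat.gcd 3 (q + 1) * 11 := (h1.trans hle).trans (Nat.mul_le_mul_left _ h2)
    have h4 : Nat.gcd 3 (q + 1) ≤ 3 := Nat.gcd_le_left _ (by norm_num)
    rcases eq_or_ne q 4 with rfl | hq4
    · norm_num at h3
    · have h5 : q ^ 2 ≤ 3 * 11 := h3.trans (Nat.mul_le_mul_right _ h4)
      have h6 : 6 ≤ q := by omega
      nlinarith

end Cfsg.Agent.H674.TwelvePSU
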