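import Cfsg.Agent.H674.SUBlock

/-!
# Explicit matrices and class numbers of `SU_n(q)` and `PSU_n(q)`

Over a computable field the class number is bounded below by lists of matrices with different decidable invariants.
-/

set_option autoImplicit false
open Cfsg

namespace Cfsg.Agent.H674.Explicit

open Matrix Cfsg.Agent.H92 Cfsg.Agent.LieClassical Cfsg.Agent.H674.SUTools Cfsg.Agent.H674.SUBlock

/-- `F_p[r]`, `r ^ 2 = a + b r` -/
abbrev QF (p : ℕ) (a b : ZMod p) : Type := QuadraticAlgebra (ZMod p) a b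

instance (p : ℕ) [Fact p.Prime] (a b : ZMod p) : Fintype (QF p a b) :=
  Fintype.ofEquiv _ (QuadraticAlgebra.equivProd (a : ZMod p) b).symm

theorem card_QF (p : ℕ) [Fact p.Prime] (a b : ZMod p) : Fintype.card (QF p a b) = p ^ 2 := by
  rw [Fintype.ofEquiv_card, Fintype.card_prod, ZMod.card, pow_two]

section

variable {K : Type} [Field K] [DecidableEq K] {n q : ℕ}

/-- the matrix is an element of `SU_n(q)` -/
def good (q : ℕ) (M : Matrix (Fin n) (Fin n) K) : Bool :=
  decide (M.det = 1) && decide (Mᵀ * M.map (fun x => x ^ q) = 1)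

theorem exists_of_good [Fintype K] (hF : Fintype.card K = q ^ 2) {M : Matrix (Fin n) (Fin n) K} (h : good q M = true) :
    ∃ x : Cfsg.SU n K q, cm x = M := by
  rw [good, Bool.and_eq_true, decide_eq_true_eq, decide_eq_true_eq] at h
  exact ⟨mkSU hF M h.1 h.2, rfl⟩

/-- the matrix has order `N` -/
def ordIs (M : Matrix (Fin n) (Fin n) K) (N : ℕ) : Bool :=
  decide (M ^ N = 1) && decide (∀ m < N, 0 < m → M ^ m ≠ 1)

theorem hasOrd_of [Fintype K] (hF : Fintype.card K = q ^ 2) {M : Matrix (Fin n) (Fin n) K} (h : good q M = true)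
    {N : ℕ} (hN : 0 < N) (h2 : ordIs M N = true) : KTools.HasOrd (Cfsg.SU n K q) N := by
  obtain ⟨x, hx⟩ := exists_of_good hF h
  rw [ordIs, Bool.and_eq_true, decide_eq_true_eq, decide_eq_true_eq] at h2
  refine ⟨x, ?_⟩
  rw [← orderOf_cm, hx, orderOf_eq_iff hN]
  exact h2

/-- lower bound for the class number of `SU_n(q)` -/
theorem length_le_SU [Fintype K] (hF : Fintype.card K = q ^ 2) {α : Type} (f : Matrix (Fin n) (Fin n) K → α)
    (hf : ∀ P Q M : Matrix (Fin n) (Fin n) K, P * Q = 1 → Q * P = 1 → f (P * M * Q) = f M)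
    (l : List (Matrix (Fin n) (Fin n) K)) (hl : ∀ M ∈ l, good q M = true) (hnd : (l.map f).Nodup) :
    l.length ≤ Nat.card (ConjClasses (Cfsg.SU n K q)) := by
  have h1 := KTools.card_le_of_inj (G := Cfsg.SU n K q)
    (fun i : Fin l.length => (exists_of_good hF (hl (l.get i) (List.get_mem l i))).choose) ?_
  · simpa using h1
  · intro i j hij
    obtain ⟨P, Q, h1, h2, h3⟩ := exists_similar hij
    have hi := (exists_of_good hF (hl (l.get i) (List.get_mem l i))).choose_spec
    have hj := (exists_of_good hF (hl (l.get j) (List.get_mem l j))).choose_spec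
    have h4 : f (l.get i) = f (l.get j) := by
      rw [← hi, ← hj, h3, hf P Q _ h1 h2]
    have h5 := List.nodup_iff_injective_get.1 hnd
    have h6 : (l.map f).get (i.cast (by simp)) = (l.map f).get (j.cast (by simp)) := by
      simpa using h4
    have h7 := h5 h6
    exact Fin.ext (by simpa [Fin.ext_iff] using h7)

/-- lower bound for the class number of `PSU_n(q)` -/
theorem length_le_PSU [Fintype K] (hF : Fintype.card K = q ^ 2) (hn : 3 ≤ n) {α : Type}
    (f : Matrix (Fin n) (Fin n) K → α)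
    (hf : ∀ P Q M : Matrix (Fin n) (Fin n) K, P * Q = 1 → Q * P = 1 → f (P * M * Q) = f M)
    (hc : ∀ (c : K) (M : Matrix (Fin n) (Fin n) K), c ^ n = 1 → c ^ (q + 1) = 1 → f (c • M) = f M)
    (l : List (Matrix (Fin n) (Fin n) K)) (hl : ∀ M ∈ l, good q M = true) (hnd : (l.map f).Nodup) :
    l.length ≤ Nat.card (ConjClasses (Cfsg.PSU n K q)) := by
  have h1 := KTools.card_le_of_inj (G := Cfsg.PSU n K q)
    (fun i : Fin l.length => pr (exists_of_good hF (hl (l.get i) (List.get_mem l i))).choose) ?_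
  · simpa using h1
  · intro i j hij
    have hi := (exists_of_good hF (hl (l.get i) (List.get_mem l i))).choose_spec
    have hj := (exists_of_good hF (hl (l.get j) (List.get_mem l j))).choose_spec
    set x := (exists_of_good hF (hl (l.get i) (List.get_mem l i))).choose
    set y := (exists_of_good hF (hl (l.get j) (List.get_mem l j))).choose
    have h4 : f (l.get i) = f (l.get j) := by
      obtain ⟨c, h5⟩ := isConj_iff.1 hij
      obtain ⟨g, rfl⟩ := pr_surjective c
      have h6 : pr ((g * x * g⁻¹)⁻¹ * y) = 1 := by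
        rw [map_mul, map_inv, map_mul, map_mul, map_inv, h5]
        simp
      rw [pr_eq_one_iff, SUBasic.mem_center_SU_iff hF hn] at h6
      obtain ⟨c, hcn, hcq, h7⟩ := h6
      have h8 : y = (g * x * g⁻¹) * SUBasic.suScalar q c hcn hcq := by
        rw [← h7]; group
      have h9 : cm y = c • (cm g * cm x * cm g⁻¹) := by
        rw [h8, map_mul, map_mul, map_mul]
        show _ * Matrix.diagonal (fun _ => c) = _
        ext a b
        rw [Matrix.mul_diagonal, Matrix.smul_apply, smul_eq_mul, mul_comm]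
      rw [← hi, ← hj, h9, hc _ _ hcn hcq, hf]
      · rw [← map_mul, mul_inv_cancel, map_one]
      · rw [← map_mul, inv_mul_cancel, map_one]
    have h5 := List.nodup_iff_injective_get.1 hnd
    have h6 : (l.map f).get (i.cast (by simp)) = (l.map f).get (j.cast (by simp)) := by
      simpa using h4
    have h7 := h5 h6
    exact Fin.ext (by simpa [Fin.ext_iff] using h7)

omit [DecidableEq K] in
theorem conj_pow' {P Q M : Matrix (Fin n) (Fin n) K} (h1 : P * Q = 1) (h2 : Q * P = 1) (k : ℕ) :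
    (P * M * Q) ^ k = P * M ^ k * Q := by
  induction k with
  | zero => simp [h1]
  | succ k ih =>
    rw [pow_succ, ih, pow_succ]
    calc P * M ^ k * Q * (P * M * Q) = P * M ^ k * (Q * P) * M * Q := by simp only [mul_assoc]
      _ = _ := by rw [h2, mul_one]; simp only [mul_assoc]

omit [DecidableEq K] in
theorem trace_conj {P Q M : Matrix (Fin n) (Fin n) K} (h2 : Q * P = 1) :
    (P * M * Q).trace = M.trace := by
  rw [Matrix.trace_mul_cycle, h2, one_mul]

omit [DecidableEq K] in
theorem conj_eq_one_iff {P Q M : Matrix (Fin n) (Fin n) K} (h1 : P * Q = 1) (h2 : Q * P = 1) :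
    P * M * Q = 1 ↔ M = 1 := by
  constructor
  · intro h
    calc M = (Q * P) * M * (Q * P) := by rw [h2]; simp
      _ = Q * (P * M * Q) * P := by simp only [mul_assoc]
      _ = 1 := by rw [h, mul_one, h2]
  · rintro rfl
    rw [mul_one, h1]

/-- trace and exponents -/
def inv (ks : List ℕ) (M : Matrix (Fin n) (Fin n) K) : K × List Bool :=
  (M.trace, ks.map fun k => decide (M ^ k = 1))

theorem inv_conj (ks : List ℕ) (P Q M : Matrix (Fin n) (Fin n) K) (h1 : P * Q = 1) (h2 : Q * P = 1) :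
    inv ks (P * M * Q) = inv ks M := by
  unfold inv
  rw [trace_conj h2]
  congr 1
  refine List.map_congr_left fun k _ => ?_
  rw [decide_eq_decide, conj_pow' h1 h2, conj_eq_one_iff h1 h2]

/-- the matrix is scalar -/
def isSc [NeZero n] (M : Matrix (Fin n) (Fin n) K) : Bool := decide (M = M 0 0 • (1 : Matrix (Fin n) (Fin n) K))

theorem isSc_iff [NeZero n] (M : Matrix (Fin n) (Fin n) K) :
    isSc M = true ↔ ∃ c : K, M = c • (1 : Matrix (Fin n) (Fin n) K) := by
  rw [isSc, decide_eq_true_eq]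
  constructor
  · intro h; exact ⟨_, h⟩
  · rintro ⟨c, rfl⟩
    simp

theorem isSc_conj [NeZero n] {P Q M : Matrix (Fin n) (Fin n) K} (h1 : P * Q = 1) (h2 : Q * P = 1) :
    isSc (P * M * Q) = isSc M := by
  rw [Bool.eq_iff_iff, isSc_iff, isSc_iff]
  constructor
  · rintro ⟨c, h⟩
    refine ⟨c, ?_⟩
    calc M = (Q * P) * M * (Q * P) := by rw [h2]; simp
      _ = Q * (P * M * Q) * P := by simp only [mul_assoc]
      _ = c • 1 := by rw [h]; simp [h2]
  · rintro ⟨c, rfl⟩
    exact ⟨c, by simp [h1]⟩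

theorem isSc_smul [NeZero n] {c : K} (hc : c ≠ 0) (M : Matrix (Fin n) (Fin n) K) :
    isSc (c • M) = isSc M := by
  rw [Bool.eq_iff_iff, isSc_iff, isSc_iff]
  constructor
  · rintro ⟨d, h⟩
    refine ⟨c⁻¹ * d, ?_⟩
    rw [← smul_smul, ← h, smul_smul, inv_mul_cancel₀ hc, one_smul]
  · rintro ⟨d, rfl⟩
    exact ⟨c * d, by rw [smul_smul]⟩

/-- the exponents modulo scalars -/
def exps [NeZero n] (ks : List ℕ) (M : Matrix (Fin n) (Fin n) K) : List Bool := ks.map fun k => isSc (M ^ k)

theorem exps_conj [NeZero n] (ks : List ℕ) {P Q M : Matrix (Fin n) (Fin n) K} (h1 : P * Q = 1) (h2 : Q * P = 1) :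
    exps ks (P * M * Q) = exps ks M := by
  refine List.map_congr_left fun k _ => ?_
  rw [conj_pow' h1 h2, isSc_conj h1 h2]

theorem exps_smul [NeZero n] (ks : List ℕ) {c : K} (hc : c ≠ 0) (M : Matrix (Fin n) (Fin n) K) :
    exps ks (c • M) = exps ks M := by
  refine List.map_congr_left fun k _ => ?_
  rw [smul_pow, isSc_smul (pow_ne_zero _ hc)]

/-- `(M - c) ^ 2 = 0` for some `c` in the list of all scalars `cs` -/
def uni2 (cs : List K) (M : Matrix (Fin n) (Fin n) K) : Bool :=
  decide (∃ c ∈ cs, (M - c • (1 : Matrix (Fin n) (Fin n) K)) * (M - c • (1 : Matrix (Fin n) (Fin n) K)) = 0)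

theorem uni2_iff {cs : List K} (hcs : ∀ c, c ∈ cs) (M : Matrix (Fin n) (Fin n) K) :
    uni2 cs M = true ↔ ∃ c : K, (M - c • (1 : Matrix (Fin n) (Fin n) K)) * (M - c • (1 : Matrix (Fin n) (Fin n) K)) = 0 := by
  rw [uni2, decide_eq_true_eq]
  exact ⟨fun ⟨c, _, h⟩ => ⟨c, h⟩, fun ⟨c, h⟩ => ⟨c, hcs c, h⟩⟩

theorem uni2_conj {cs : List K} (hcs : ∀ c, c ∈ cs) {P Q M : Matrix (Fin n) (Fin n) K} (h1 : P * Q = 1)
    (h2 : Q * P = 1) : uni2 cs (P * M * Q) = uni2 cs M := by
  rw [Bool.eq_iff_iff, uni2_iff hcs, uni2_iff hcs]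
  refine exists_congr fun c => ?_
  have h3 : P * M * Q - c • (1 : Matrix (Fin n) (Fin n) K) = P * (M - c • 1) * Q := by
    rw [mul_sub, sub_mul]; simp [h1]
  rw [h3]
  have h4 : P * (M - c • 1) * Q * (P * (M - c • 1) * Q) = P * ((M - c • 1) * (M - c • 1)) * Q := by
    calc P * (M - c • 1) * Q * (P * (M - c • 1) * Q) = P * (M - c • 1) * (Q * P) * (M - c • 1) * Q := by
          simp only [mul_assoc]
      _ = _ := by rw [h2, mul_one]; simp only [mul_assoc]
  rw [h4]
  constructor
  · intro h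
    calc (M - c • 1) * (M - c • 1) = (Q * P) * ((M - c • 1) * (M - c • 1)) * (Q * P) := by rw [h2]; simp
      _ = Q * (P * ((M - c • 1) * (M - c • 1)) * Q) * P := by simp only [mul_assoc]
      _ = 0 := by rw [h]; simp
  · intro h
    rw [h]; simp

theorem uni2_smul {cs : List K} (hcs : ∀ c, c ∈ cs) {d : K} (hd : d ≠ 0) (M : Matrix (Fin n) (Fin n) K) :
    uni2 cs (d • M) = uni2 cs M := by
  rw [Bool.eq_iff_iff, uni2_iff hcs, uni2_iff hcs]
  constructor
  · rintro ⟨c, h⟩
    refine ⟨d⁻¹ * c, ?_⟩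
    have h3 : M - (d⁻¹ * c) • (1 : Matrix (Fin n) (Fin n) K) = d⁻¹ • (d • M - c • 1) := by
      rw [smul_sub, smul_smul, smul_smul, inv_mul_cancel₀ hd, one_smul]
    rw [h3]
    simp [h]
  · rintro ⟨c, h⟩
    refine ⟨d * c, ?_⟩
    have h3 : d • M - (d * c) • (1 : Matrix (Fin n) (Fin n) K) = d • (M - c • 1) := by
      rw [smul_sub, smul_smul]
    rw [h3]
    simp [h]

end

end Cfsg.Agent.H674.Explicit
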